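import Cfsg.Agent.H132.S5.Main
import Cfsg.Agent.H459.Rad
import Cfsg.Agent.S3833
import Cfsg.Agent.S3829
import Cfsg.Agent.S5303

/-!
# The black boxes of S2274 are theorems
-/

set_option autoImplicit false

universe u

namespace Cfsg.Agent.H132.S5

open Cfsg Cfsg.Agent.H533.T5 Cfsg.Agent.H106.MT Subgroup

theorem aaHyp {p : ℕ} (hp : p.Prime) : AAHyp.{u} p := by
  have hpf : Fact p.Prime := ⟨hp⟩
  intro K _ _ x hx h
  refine (Cfsg.Agent.S3833.result (p := p) {y : K | ∃ g : K, y = g * x * g⁻¹} ⟨x, 1, by simp⟩ ?_ ?_ ?_).1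
  · rintro g _ ⟨k, rfl⟩
    exact ⟨g * k, by group⟩
  · rintro _ ⟨g, rfl⟩
    have := (MulAut.conj g).orderOf_eq x
    rw [MulAut.conj_apply] at this
    rw [this, hx]
  · rintro _ ⟨g, rfl⟩ _ ⟨k, rfl⟩
    obtain ⟨m, hm⟩ := h (g⁻¹ * k)
    have h1 : g * x * g⁻¹ * (k * x * k⁻¹) = g * (x * (g⁻¹ * k * x * (g⁻¹ * k)⁻¹)) * g⁻¹ := by group
    have h2 : (g * x * g⁻¹ * (k * x * k⁻¹)) ^ p ^ m = 1 := by
      rw [h1, conj_pow, hm]; group
    obtain ⟨j, -, hj⟩ := (Nat.dvd_prime_pow hp).1 (orderOf_dvd_of_pow_eq_one h2)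
    exact ⟨j, hj⟩

theorem rsHyp {p : ℕ} (hp : p.Prime) (h5 : 5 ≤ p) : RSHyp.{u} p := by
  have hpf : Fact p.Prime := ⟨hp⟩
  intro K _ _ x hx h
  have h1 : x ∈ Cfsg.solvableRadical K := (Cfsg.Agent.S3829.result h5 x hx).2 h
  have hn : (solvableRadical K).Normal := Cfsg.Agent.H459.Rad.rad_normal K
  have hs : Group.IsSolvable (solvableRadical K) := Cfsg.Agent.H459.Rad.rad_solvable K
  have h2 : Subgroup.closure {y : K | ∃ g : K, y = g * x * g⁻¹} ≤ solvableRadical K := by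
    rw [Subgroup.closure_le]
    rintro _ ⟨g, rfl⟩
    exact hn.conj_mem x h1 g
  exact isSolvable_of_le h2 hs

theorem irr5303 {p : ℕ} (hp : p.Prime) : Irr5303.{u} p := by
  have hpf : Fact p.Prime := ⟨hp⟩
  intro G _ _ _ hna P hP hab Ω hΩ
  exact Cfsg.Agent.S5303.result hna p P hP hab Ω hΩ

/-- **The black boxes.** -/
theorem sbox {p : ℕ} (hp : p.Prime) (h5 : 5 ≤ p) : SBox.{u} p := ⟨aaHyp hp, rsHyp hp h5, irr5303 hp⟩

end Cfsg.Agent.H132.S5
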