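import Cfsg.Agent.H132.S5.Main
import Cfsg.Agent.Lib.SylowNormalInf

/-!
# Strong pairs when the Sylow `p`-subgroups are abelian (I)

* `exists_omega` : `Ω₁(P)` is generated by the conjugates of any element of order `p` (S5303);
* `not_dvd_card_center` : a perfect group with abelian Sylow `p`-subgroups has a centre of order prime to `p`;
* `exists_pair` : `P` normalises the subgroup `L` and `Ω₁(P)` does not centralise it: conjugates `a`, `b` of `x`, `y` in `Ω₁(P)`
  which do not centralise `L`;
* `spair_of_norm` : a quasisimple `L` normalised by `P`, not centralised by `Ω₁(P)`;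
* `spair_of_qs` : `L` quasisimple, normalised by a subgroup of index prime to `p`, `p ∣ |L/Z(L)|`.
-/

set_option autoImplicit false

universe u

namespace Cfsg.Agent.H132.S5

open Cfsg Cfsg.Agent.H533.T5 Cfsg.Agent.H106.MB Cfsg.Agent.H106.MT Subgroup
open scoped commutatorElement

variable {p : ℕ}

theorem comm_of_hab {S : Type*} [Group S] {P : Subgroup S} (h : IsMulCommutative ↥P) :
    ∀ a ∈ P, ∀ b ∈ P, Commute a b := fun a ha b hb =>
  congrArg Subtype.val (h.is_comm.comm (⟨a, ha⟩ : ↥P) ⟨b, hb⟩)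

/-- the subgroup of the elements of order dividing `p` of an abelian subgroup -/
def omega (p : ℕ) {S : Type*} [Group S] (P : Subgroup S) (h : ∀ a ∈ P, ∀ b ∈ P, Commute a b) : Subgroup S where
  carrier := {z | z ∈ P ∧ z ^ p = 1}
  one_mem' := ⟨one_mem _, one_pow _⟩
  mul_mem' := by
    rintro a b ⟨ha, ha'⟩ ⟨hb, hb'⟩
    exact ⟨mul_mem ha hb, by rw [(h a ha b hb).mul_pow, ha', hb', one_mul]⟩
  inv_mem' := by
    rintro a ⟨ha, ha'⟩
    exact ⟨inv_mem ha, by rw [inv_pow, ha', inv_one]⟩

theorem mem_omega {S : Type*} [Group S] {P : Subgroup S} {h : ∀ a ∈ P, ∀ b ∈ P, Commute a b} {z : S} :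
    z ∈ omega p P h ↔ z ∈ P ∧ z ^ p = 1 := Iff.rfl

/-- **`Ω₁(P)` is generated by the conjugates of an element of order `p`.** -/
theorem closure_conj_omega [hp : Fact p.Prime] (hI : Irr5303.{u} p) {S : Type u} [Group S] [Finite S] [IsSimpleGroup S]
    (hna : ¬ IsMulCommutative S) (P : Sylow p S) (hP : IsMulCommutative ↥(P : Subgroup S)) {x : S} (hx : orderOf x = p) :
    closure {z : S | z ∈ omega p (P : Subgroup S) (comm_of_hab hP) ∧ ∃ g : S, g * x * g⁻¹ = z} =
      omega p (P : Subgroup S) (comm_of_hab hP) := by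
  set Ω := omega p (P : Subgroup S) (comm_of_hab hP) with hΩ
  obtain ⟨g, hg⟩ := exists_conj_mem_sylow P hx
  have hgx : g * x * g⁻¹ ≠ 1 := by
    intro h
    have h1 : x = 1 := by
      have h2 := congrArg (fun z => g⁻¹ * z * g) h
      simpa [mul_assoc] using h2
    rw [h1, orderOf_one] at hx
    exact hp.out.one_lt.ne hx
  have hPb : (P : Subgroup S) ≠ ⊥ := by
    intro h
    rw [h, mem_bot] at hg
    exact hgx hg
  have hle : closure {z : S | z ∈ Ω ∧ ∃ g : S, g * x * g⁻¹ = z} ≤ Ω := by
    rw [closure_le]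
    intro z hz
    exact hz.1
  rcases (hI S hna P hPb hP Ω (fun z => Iff.rfl)).1 _ hle (by
    intro n hn b hb
    induction hb using Subgroup.closure_induction with
    | mem z hz =>
      obtain ⟨⟨hz1, hz2⟩, h, rfl⟩ := hz
      refine subset_closure ⟨⟨?_, ?_⟩, n * h, by group⟩
      · exact (mem_normalizer_iff.1 hn _).1 hz1
      · rw [conj_pow, hz2]; group
    | one => simp
    | mul a b _ _ ha hb =>
      have : n * (a * b) * n⁻¹ = (n * a * n⁻¹) * (n * b * n⁻¹) := by group
      rw [this]; exact mul_mem ha hb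
    | inv a _ ha =>
      have : n * a⁻¹ * n⁻¹ = (n * a * n⁻¹)⁻¹ := by group
      rw [this]; exact inv_mem ha) with h | h
  · exfalso
    apply hgx
    have h1 : g * x * g⁻¹ ∈ closure {z : S | z ∈ Ω ∧ ∃ g : S, g * x * g⁻¹ = z} := by
      refine subset_closure ⟨⟨hg, ?_⟩, g, rfl⟩
      rw [conj_pow, ← hx, pow_orderOf_eq_one]; group
    rwa [h, mem_bot] at h1
  · exact h

/-- **The centre of a perfect group with abelian Sylow `p`-subgroups has order prime to `p`.** -/
theorem not_dvd_card_center [hp : Fact p.Prime] {L : Type*} [Group L] [Finite L] (hL : commutator L = ⊤)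
    (P : Sylow p L) (hP : IsMulCommutative ↥(P : Subgroup L)) : ¬ p ∣ Nat.card (center L) := by
  intro h
  obtain ⟨⟨z, hzZ⟩, hz⟩ := exists_prime_orderOf_dvd_card' p h
  have hz' : orderOf z = p := by rwa [Subgroup.orderOf_mk] at hz
  obtain ⟨g, hg⟩ := exists_conj_mem_sylow P hz'
  have hzP : z ∈ (P : Subgroup L) := by
    have h1 : g * z * g⁻¹ = z := by
      rw [mem_center_iff.1 hzZ g]; group
    rwa [h1] at hg
  let _ : CommGroup ↥(P : Subgroup L) := { (inferInstance : Group ↥(P : Subgroup L)) with mul_comm := fun a b => mul_comm' a b }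
  have key : ∀ (k : ℕ) (g₀ : L), g₀⁻¹ * z ^ k * g₀ ∈ (P : Subgroup L) → g₀⁻¹ * z ^ k * g₀ = z ^ k := by
    intro k g₀ _
    have h1 : z ^ k ∈ center L := pow_mem hzZ k
    rw [mul_assoc, ← mem_center_iff.1 h1 g₀]; group
  have h1 := MonoidHom.transfer_eq_pow (MonoidHom.id ↥(P : Subgroup L)) z key
  have h2 : (MonoidHom.transfer (MonoidHom.id ↥(P : Subgroup L))) z = 1 := by
    have h3 : commutator L ≤ (MonoidHom.transfer (MonoidHom.id ↥(P : Subgroup L))).ker :=
      Abelianization.commutator_subset_ker _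
    rw [hL] at h3
    exact h3 (mem_top z)
  rw [h2] at h1
  have h3 : z ^ (P : Subgroup L).index = 1 := by
    have := congrArg Subtype.val h1
    simpa using this.symm
  have h4 : orderOf z ∣ (P : Subgroup L).index := orderOf_dvd_of_pow_eq_one h3
  rw [hz'] at h4
  exact P.not_dvd_index h4

/-- conjugates of `x` in `Ω₁(P)` which do not centralise `L` -/
theorem exists_pair [hp : Fact p.Prime] (hI : Irr5303.{u} p) {S : Type u} [Group S] [Finite S] [IsSimpleGroup S]
    (hna : ¬ IsMulCommutative S) (P : Sylow p S) (hP : IsMulCommutative ↥(P : Subgroup S)) {L : Subgroup S}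
    (hL : ∃ z ∈ (P : Subgroup S), z ^ p = 1 ∧ ∃ r ∈ L, ¬ Commute r z) {x : S} (hx : orderOf x = p) :
    ∃ g : S, g * x * g⁻¹ ∈ (P : Subgroup S) ∧ ∃ r ∈ L, ¬ Commute r (g * x * g⁻¹) := by
  by_contra hcon
  push Not at hcon
  obtain ⟨z, hz, hzp, r, hr, hrz⟩ := hL
  have h1 : z ∈ omega p (P : Subgroup S) (comm_of_hab hP) := ⟨hz, hzp⟩
  rw [← closure_conj_omega hI hna P hP hx] at h1
  apply hrz
  clear hrz hzp hz
  induction h1 using Subgroup.closure_induction with
  | mem z hz =>
    obtain ⟨⟨hz1, hz2⟩, g, rfl⟩ := hz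
    exact hcon g hz1 r hr
  | one => exact Commute.one_right r
  | mul a b _ _ ha hb => exact ha.mul_right hb
  | inv a _ ha => exact ha.inv_right

/-- **A quasisimple subgroup normalised by `P` and not centralised by `Ω₁(P)`.** -/
theorem spair_of_norm [hp : Fact p.Prime] (hI : Irr5303.{u} p) {S : Type u} [Group S] [Finite S] [IsSimpleGroup S]
    (hna : ¬ IsMulCommutative S) (hlt : SBelow.{u} p (Nat.card S)) (P : Sylow p S)
    (hP : IsMulCommutative ↥(P : Subgroup S)) {L : Subgroup S} (hPL : (P : Subgroup S) ≤ normalizer (L : Set S))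
    (hq : IsQuasisimple L) (hcard : Nat.card (L ⧸ center L) < Nat.card S)
    (hL : ∃ z ∈ (P : Subgroup S), z ^ p = 1 ∧ ∃ r ∈ L, ¬ Commute r z) {x y : S} (hx : orderOf x = p)
    (hy : orderOf y = p) : SPair p (⊤ : Subgroup S) x y := by
  obtain ⟨g, hgP, hg⟩ := exists_pair hI hna P hP hL hx
  obtain ⟨h, hhP, hh⟩ := exists_pair hI hna P hP hL hy
  have hs : IsSimpleGroup (L ⧸ center L) := hq.2
  have hnaL : ¬ IsMulCommutative (L ⧸ center L) := by
    intro hc
    have hperf : commutator L = ⊤ := isPerfect_iff.1 hq.1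
    have h1 : commutator L ≤ center L := by
      rw [commutator_def, commutator_le]
      intro a _ b _
      rw [← QuotientGroup.eq_one_iff]
      change QuotientGroup.mk' (center L) ⁅a, b⁆ = 1
      rw [map_commutatorElement, commutatorElement_eq_one_iff_mul_comm]
      exact hc.is_comm.comm _ _
    rw [hperf, top_le_iff] at h1
    have h2 : Subsingleton (L ⧸ center L) := by
      rw [h1]; exact QuotientGroup.subsingleton_quotient_top
    exact not_nontrivial_iff_subsingleton.2 h2 hs.toNontrivial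
  have hrow := hlt (L ⧸ center L) hs hnaL hcard
  have ho : ∀ {z : S} (k : S), orderOf z = p → orderOf (k * z * k⁻¹) = p := by
    intro z k hz
    have := (MulAut.conj k).orderOf_eq z
    rw [MulAut.conj_apply] at this
    rw [this, hz]
  have h1 := spair_of_quasisimple hp.out (S := ⊤) le_top hq hrow (ho g hx) (ho h hy) (hPL hgP) (hPL hhP) hg hh
  exact ((h1.conj_left (mem_top g)).conj_right (mem_top h))

/-- **The engine, index prime to `p`.** -/
theorem spair_of_qs [hp : Fact p.Prime] (B : SBox.{u} p) {S : Type u} [Group S] [Finite S] [IsSimpleGroup S]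
    (hna : ¬ IsMulCommutative S) (hab : ∀ P : Sylow p S, IsMulCommutative ↥(P : Subgroup S))
    (hlt : SBelow.{u} p (Nat.card S)) {M L : Subgroup S} (hM : ¬ p ∣ M.index)
    (hML : M ≤ normalizer (L : Set S)) (hq : IsQuasisimple L) (hpL : p ∣ Nat.card (L ⧸ center L))
    (hcard : Nat.card (L ⧸ center L) < Nat.card S) {x y : S} (hx : orderOf x = p)
    (hy : orderOf y = p) : SPair p (⊤ : Subgroup S) x y := by
  set N : Subgroup S := normalizer (L : Set S) with hN
  have hNi : ¬ p ∣ N.index := fun h => hM (h.trans (index_dvd_of_le hML))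
  have hLN : L ≤ N := le_normalizer
  -- a Sylow subgroup of `S` in `N`
  obtain ⟨Q⟩ : Nonempty (Sylow p N) := inferInstance
  have hQ' : IsPGroup p ((Q : Subgroup N).map N.subtype) := Q.isPGroup'.map _
  have hidx : ¬ p ∣ ((Q : Subgroup N).map N.subtype).index := by
    have h1 : ((Q : Subgroup N).map N.subtype).index = (Q : Subgroup N).index * N.index :=
      Subgroup.index_map_subtype _
    rw [h1]
    intro h2
    rcases hp.out.dvd_mul.1 h2 with h3 | h3
    · exact Q.not_dvd_index h3
    · exact hNi h3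
  let P : Sylow p S := hQ'.toSylow hidx
  have hPQ : (P : Subgroup S) = (Q : Subgroup N).map N.subtype := rfl
  have hPN : (P : Subgroup S) ≤ N := by
    rw [hPQ]; exact map_subtype_le _
  -- the Sylow subgroup of `L`
  have hLn : (L.subgroupOf N).Normal := by
    rw [hN]; infer_instance
  have hnd := Lib.SylowNormalInf.not_dvd_relIndex Q (L.subgroupOf N)
  have hpg := Lib.SylowNormalInf.isPGroup_subgroupOf Q (L.subgroupOf N)
  let Q1 : Sylow p ↥(L.subgroupOf N) := hpg.toSylow hnd
  let e : ↥(L.subgroupOf N) ≃* ↥L := subgroupOfEquivOfLe hLN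
  obtain ⟨PL⟩ : Nonempty (Sylow p L) := inferInstance
  -- an element of order `p` of `L` in `P`
  have hperf : commutator L = ⊤ := isPerfect_iff.1 hq.1
  have hPLab : IsMulCommutative ↥(PL : Subgroup L) := by
    have h1 : IsPGroup p ((PL : Subgroup L).map L.subtype) := PL.isPGroup'.map _
    obtain ⟨P2, hP2⟩ := h1.exists_le_sylow
    have h2 := comm_of_hab (hab P2)
    refine ⟨⟨fun a b => ?_⟩⟩
    apply Subtype.ext
    apply Subtype.ext
    exact (h2 _ (hP2 ⟨a, a.2, rfl⟩) _ (hP2 ⟨b, b.2, rfl⟩)).eq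
  have hZ := not_dvd_card_center hperf PL hPLab
  have hpL' : p ∣ Nat.card L := by
    rw [card_eq_card_quotient_mul_card_subgroup (center L)]
    exact dvd_mul_of_dvd_left hpL _
  obtain ⟨z, hz⟩ := exists_prime_orderOf_dvd_card' p hpL'
  -- conjugate into the Sylow subgroup `Q1`
  have hz1 : orderOf (e.symm z) = p := by rw [MulEquiv.orderOf_eq, hz]
  obtain ⟨g, hg⟩ := exists_conj_mem_sylow Q1 hz1
  have hg' : g * e.symm z * g⁻¹ ∈ (Q : Subgroup N).subgroupOf (L.subgroupOf N) := hg
  rw [mem_subgroupOf] at hg'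
  set w : L := e (g * e.symm z * g⁻¹) with hw
  have hwP : (w : S) ∈ (P : Subgroup S) := by
    rw [hPQ]
    exact ⟨_, hg', rfl⟩
  have hwo : orderOf w = p := by
    rw [hw, MulEquiv.orderOf_eq]
    have := (MulAut.conj g).orderOf_eq (e.symm z)
    rw [MulAut.conj_apply] at this
    rw [this, hz1]
  have hwZ : w ∉ center L := by
    intro h
    apply hZ
    rw [← hwo, ← Subgroup.orderOf_mk w h]
    exact orderOf_dvd_natCard _
  refine spair_of_norm B.irr hna hlt P (hab P) hPN hq hcard ⟨w, hwP, ?_, ?_⟩ hx hy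
  · have : w ^ p = 1 := by rw [← hwo, pow_orderOf_eq_one]
    simpa using congrArg Subtype.val this
  · by_contra hcon
    push Not at hcon
    apply hwZ
    rw [mem_center_iff]
    intro l
    exact Subtype.ext (hcon l l.2).eq

end Cfsg.Agent.H132.S5
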