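import Cfsg.Agent.H132.S5.Eng
import Cfsg.Agent.Lib.PSolvable
import Cfsg.Agent.Lib.PGroupCoprimeAction
import Cfsg.Agent.Lib.Cores
import Cfsg.Agent.S1443

/-!
# Strong pairs when the Sylow `p`-subgroups are abelian (II): centralisers

* `exists_normal_of_solvable` : `R ⊴ G` solvable, `P` an abelian Sylow `p`-subgroup: `G = K N_G(P ⊓ R)` with a normal `p'`-subgroup `K`;
* `eq_one_of_omega` : if `P` normalises no `r`-subgroup, then no `r`-element centralises `Ω₁(P)`;
* `card_dvd_of_solvable` : `Ω₁(P) = V ⟨x⟩`, `V` central, `x` in a solvable normal subgroup: the `r`-subgroups have order dividing `p - 1`.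
-/

set_option autoImplicit false

universe u

namespace Cfsg.Agent.H132.S5

open Cfsg Cfsg.Agent.H533.T5 Cfsg.Agent.H106.MB Cfsg.Agent.H106.MT Subgroup

section

variable {G : Type*} [Group G] [Finite G] {p : ℕ} [hp : Fact p.Prime]

theorem exists_normal_of_solvable (P : Sylow p G) (hP : IsMulCommutative ↥(P : Subgroup G)) {R : Subgroup G}
    [hRn : R.Normal] (hR : Group.IsSolvable R) :
    ∃ K : Subgroup G, K.Normal ∧ ¬ p ∣ Nat.card K ∧
      K ⊔ normalizer (((P : Subgroup G) ⊓ R : Subgroup G) : Set G) = ⊤ := by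
  have hnd := Lib.SylowNormalInf.not_dvd_relIndex P R
  have hpg := Lib.SylowNormalInf.isPGroup_subgroupOf P R
  let Q1 : Sylow p ↥R := hpg.toSylow hnd
  have hQ1 : (Q1 : Subgroup R) = (P : Subgroup G).subgroupOf R := rfl
  have hc := comm_of_hab hP
  set K1 : Subgroup R := pPrimeCore p R with hK1
  have hK1n : K1.Normal := Lib.Cores.pPrimeCore_normal p
  have hK1c : K1.Characteristic := Lib.Cores.pPrimeCore_characteristic p
  have hcop : (Nat.card K1).Coprime p := Lib.Cores.pPrimeCore_coprime p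
  -- the quotient
  have hs := QuotientGroup.mk'_surjective K1
  have hsol : Group.IsSolvable (R ⧸ K1) := Group.isSolvable_of_surjective (f := QuotientGroup.mk' K1) hs
  have hbot : pPrimeCore p (R ⧸ K1) = ⊥ := Lib.Cores.pPrimeCore_quotient_pPrimeCore p
  have hself := Lib.PSolvable.centralizer_pCore_le_of_pSolvable (G := R ⧸ K1) p
    (Lib.PSolvable.IsPSolvable_of_solvable p) hbot
  -- the Sylow subgroup of the quotient
  have hQm : IsPGroup p ((Q1 : Subgroup R).map (QuotientGroup.mk' K1)) := Q1.isPGroup'.map _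
  have hidx : ¬ p ∣ ((Q1 : Subgroup R).map (QuotientGroup.mk' K1)).index := by
    intro h
    exact Q1.not_dvd_index (h.trans (Subgroup.index_map_dvd _ hs))
  let Q2 : Sylow p (R ⧸ K1) := hQm.toSylow hidx
  have hcore : pCore p (R ⧸ K1) ≤ (Q1 : Subgroup R).map (QuotientGroup.mk' K1) := Lib.Cores.pCore_le_sylow Q2
  have hQ1core : (Q1 : Subgroup R).map (QuotientGroup.mk' K1) ≤ pCore p (R ⧸ K1) := by
    refine le_trans ?_ hself
    rintro _ ⟨a, ha, rfl⟩
    rw [mem_centralizer_iff]
    intro z hz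
    obtain ⟨b, hb, rfl⟩ := hcore hz
    rw [← map_mul, ← map_mul]
    congr 1
    exact Subtype.ext (hc _ hb _ ha).eq
  have heq := le_antisymm hQ1core hcore
  -- `W = K Q`
  set W1 : Subgroup R := (pCore p (R ⧸ K1)).comap (QuotientGroup.mk' K1) with hW1
  have hW1c : W1.Characteristic := by
    rw [characteristic_iff_comap_le]
    intro φ y hy
    rw [mem_comap] at hy
    rw [hW1, mem_comap] at hy ⊢
    have hφ : K1.map φ.toMonoidHom = K1 := (characteristic_iff_map_eq.1 hK1c) φ
    let e : R ⧸ K1 ≃* R ⧸ K1 := QuotientGroup.congr K1 K1 φ hφ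
    have h1 : (pCore p (R ⧸ K1)).map e.toMonoidHom = pCore p (R ⧸ K1) := Lib.Cores.map_equiv_pCore e p
    have h2 : e (QuotientGroup.mk' K1 y) = QuotientGroup.mk' K1 (φ y) := rfl
    have h3 : QuotientGroup.mk' K1 (φ y) ∈ (pCore p (R ⧸ K1)).map e.toMonoidHom := by
      rw [h1]; exact hy
    obtain ⟨z, hz, hz'⟩ := h3
    have h4 : z = QuotientGroup.mk' K1 y := e.injective (by rw [h2]; exact hz')
    rw [← h4]; exact hz
  have hW1' : W1 = (Q1 : Subgroup R) ⊔ K1 := by
    rw [hW1, ← heq, comap_map_eq, QuotientGroup.ker_mk']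
  set K : Subgroup G := K1.map R.subtype with hK
  have hKn : K.Normal := inferInstance
  set W : Subgroup G := W1.map R.subtype with hW
  have hWn : W.Normal := inferInstance
  refine ⟨K, hKn, ?_, ?_⟩
  · rw [hK, card_map_of_injective R.subtype_injective]
    intro h
    have h1 : p ∣ Nat.gcd (Nat.card K1) p := Nat.dvd_gcd h dvd_rfl
    rw [hcop] at h1
    exact hp.out.one_lt.ne' (Nat.dvd_one.1 h1)
  · have h1 := Lib.SylowNormalInf.normalizer_inf_sup_eq_top P W
    have h2 : (P : Subgroup G) ⊓ W = (P : Subgroup G) ⊓ R := by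
      apply le_antisymm
      · exact inf_le_inf_left _ (map_subtype_le _)
      · rintro y ⟨hy1, hy2⟩
        refine ⟨hy1, ⟨y, hy2⟩, ?_, rfl⟩
        rw [hW1']
        exact (le_sup_left : (Q1 : Subgroup R) ≤ _) hy1
    rw [h2] at h1
    rw [eq_top_iff, ← h1]
    refine sup_le le_sup_right ?_
    rw [hW, hW1', Subgroup.map_sup]
    refine sup_le ?_ le_sup_left
    rintro _ ⟨y, hy, rfl⟩
    refine (le_sup_right : normalizer (((P : Subgroup G) ⊓ R : Subgroup G) : Set G) ≤ _) (le_normalizer ?_)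
    exact ⟨hy, y.2⟩

/-- no `r`-subgroup is normalised by `P`: no `r`-element centralises `Ω₁(P)` -/
theorem card_eq_one_of_omega (h2 : p ≠ 2) (P : Sylow p G) (hP : IsMulCommutative ↥(P : Subgroup G)) {r : ℕ}
    [hr : Fact r.Prime] (hrp : r ≠ p)
    (hnr : ∀ T : Subgroup G, IsPGroup r T → (P : Subgroup G) ≤ normalizer (T : Set G) → T = ⊥) :
    ¬ r ∣ Nat.card (centralizer ({z : G | z ∈ P ∧ z ^ p = 1})) := by
  intro hdvd
  have hc := comm_of_hab hP
  set D : Subgroup G := centralizer ({z : G | z ∈ P ∧ z ^ p = 1}) with hD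
  have hPD : (P : Subgroup G) ≤ D := by
    intro y hy
    rw [hD, mem_centralizer_iff]
    rintro z ⟨hz, -⟩
    exact (hc z hz y hy).eq
  let PD : Sylow p D := P.subtype hPD
  have hPD' : (PD : Subgroup D) = (P : Subgroup G).subgroupOf D := rfl
  -- Burnside
  have hNC : normalizer ((PD : Subgroup D) : Set D) ≤ centralizer ((PD : Subgroup D) : Set D) := by
    intro n hn
    obtain ⟨k, m, hm, hnm⟩ := Nat.exists_eq_pow_mul_and_not_dvd (orderOf_pos n).ne' p hp.out.ne_one
    -- the `p'`-part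
    have h1 : orderOf (n ^ p ^ k) = m := by
      rw [orderOf_pow' _ (pow_ne_zero _ hp.out.ne_zero), hnm, Nat.gcd_mul_right_left,
        Nat.mul_div_cancel_left _ (pow_pos hp.out.pos _)]
    have hA : zpowers (n ^ p ^ k) ≤ centralizer ((PD : Subgroup D) : Set D) := by
      refine Cfsg.Agent.S1443.result p h2 (PD : Subgroup D) ⊥ (zpowers (n ^ p ^ k)) PD.isPGroup' bot_le ?_ ?_ ?_ ?_
      · exact ⟨⟨⟨fun a b => Subsingleton.elim _ _⟩⟩, fun a ha => by rw [mem_bot.1 ha, one_pow]⟩
      · rw [zpowers_le]; exact pow_mem hn _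
      · rw [Nat.card_zpowers, h1]
        exact ((Nat.Prime.coprime_iff_not_dvd hp.out).2 hm).symm
      · rintro y ⟨hy, -⟩ hyo
        rw [zpowers_le, mem_centralizer_singleton_iff]
        refine Subtype.ext ?_
        have h3 : ((y : D) : G) ∈ {z : G | z ∈ P ∧ z ^ p = 1} := by
          refine ⟨hy, ?_⟩
          have h4 : y ^ p = 1 := by rw [← hyo, pow_orderOf_eq_one]
          simpa using congrArg Subtype.val h4
        have h4 : ∀ z ∈ {z : G | z ∈ P ∧ z ^ p = 1}, z * ((n ^ p ^ k : D) : G) = ((n ^ p ^ k : D) : G) * z :=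
          mem_centralizer_iff.1 (n ^ p ^ k).2
        exact (h4 _ h3).symm
    -- the `p`-part
    have hB : n ^ m ∈ (PD : Subgroup D) := by
      have h3 : IsPGroup p (zpowers (n ^ m)) := by
        rw [IsPGroup.iff_card]
        refine ⟨k, ?_⟩
        have hm0 : m ≠ 0 := by rintro rfl; exact hm (dvd_zero _)
        rw [Nat.card_zpowers, orderOf_pow' _ hm0, hnm, Nat.gcd_mul_left_left,
          Nat.mul_div_cancel _ (Nat.pos_of_ne_zero hm0)]
      have h4 : zpowers (n ^ m) ≤ (PD : Subgroup D) := by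
        have h5 : IsPGroup p ↥(zpowers (n ^ m) ⊔ (PD : Subgroup D)) := by
          refine h3.to_sup_of_normal_right' PD.isPGroup' ?_
          rw [zpowers_le]; exact pow_mem hn _
        have h6 := PD.is_maximal' h5 le_sup_right
        rw [← h6]; exact le_sup_left
      exact h4 (mem_zpowers _)
    rw [mem_centralizer_iff]
    intro y hy
    have e1 : Commute y (n ^ p ^ k) := by
      have := hA (mem_zpowers _)
      rw [mem_centralizer_iff] at this
      exact this y hy
    have e2 : Commute y (n ^ m) := Subtype.ext (hc _ hy _ hB).eq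
    have hcop : IsCoprime ((p ^ k : ℕ) : ℤ) ((m : ℕ) : ℤ) :=
      Nat.isCoprime_iff_coprime.2 (Nat.Coprime.pow_left _ ((Nat.Prime.coprime_iff_not_dvd hp.out).2 hm))
    obtain ⟨a, b, hab⟩ := hcop
    have e3 : n = (n ^ p ^ k) ^ a * (n ^ m) ^ b := by
      rw [← zpow_natCast n (p ^ k), ← zpow_natCast n m, ← zpow_mul, ← zpow_mul, ← zpow_add,
        mul_comm _ a, mul_comm _ b, hab, zpow_one]
    have e4 : Commute y n := by
      rw [e3]
      exact (e1.zpow_right a).mul_right (e2.zpow_right b)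
    exact e4.eq
  have hcompl := MonoidHom.ker_transferSylow_isComplement' PD hNC
  set E1 : Subgroup D := (MonoidHom.transferSylow PD hNC).ker with hE1
  have hcard := hcompl.card_mul_card
  have hpE : ¬ p ∣ Nat.card E1 := by
    intro h
    have h3 : (PD : Subgroup D).index = Nat.card E1 := hcompl.index_eq_card
    rw [← h3] at h
    exact PD.not_dvd_index h
  have hrE : r ∣ Nat.card E1 := by
    rw [← hcard] at hdvd
    rcases hr.out.dvd_mul.1 hdvd with h3 | h3
    · exact h3
    · exfalso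
      obtain ⟨k, hk⟩ := IsPGroup.iff_card.1 PD.isPGroup'
      rw [hk] at h3
      exact hrp ((Nat.prime_dvd_prime_iff_eq hr.out hp.out).1 (hr.out.dvd_of_dvd_pow h3))
  set E : Subgroup G := E1.map D.subtype with hE
  have hEc : Nat.card E = Nat.card E1 := card_map_of_injective D.subtype_injective
  obtain ⟨T, ⟨T1, hT1⟩, hT2⟩ := Lib.PGroupCoprimeAction.exists_invariant_sylow (A := (P : Subgroup G)) (H := E)
    P.isPGroup' (by rwa [hEc]) (by
      rintro b hb _ ⟨u, hu, rfl⟩
      have h3 : (⟨b, hPD hb⟩ : D) * u * (⟨b, hPD hb⟩ : D)⁻¹ ∈ E1 := (inferInstance : E1.Normal).conj_mem u hu _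
      exact ⟨_, h3, rfl⟩) r
  have hTr : IsPGroup r T := by rw [← hT1]; exact T1.isPGroup'.map _
  have hTb : T = ⊥ := by
    refine hnr T hTr ?_
    intro b hb
    rw [mem_normalizer_iff]
    intro u
    refine ⟨fun hu => hT2 b hb u hu, fun hu => ?_⟩
    have h3 := hT2 b⁻¹ (inv_mem hb) _ hu
    have h4 : b⁻¹ * (b * u * b⁻¹) * b⁻¹⁻¹ = u := by group
    rwa [h4] at h3
  have h3 : (T1 : Subgroup E) = ⊥ := by
    rw [hTb] at hT1
    exact (map_eq_bot_iff_of_injective _ E.subtype_injective).1 hT1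
  have h4 := T1.not_dvd_index
  rw [h3, index_bot, hEc] at h4
  exact h4 hrE

/-- conjugating an `r`-subgroup into a subgroup of index prime to `r` -/
theorem exists_conj_le {r : ℕ} [hr : Fact r.Prime] {N : Subgroup G} (hN : ¬ r ∣ N.index) {T : Subgroup G}
    (hT : IsPGroup r T) : ∃ g : G, ∀ t ∈ T, g * t * g⁻¹ ∈ N := by
  obtain ⟨Q⟩ : Nonempty (Sylow r N) := inferInstance
  have hQ' : IsPGroup r ((Q : Subgroup N).map N.subtype) := Q.isPGroup'.map _
  have hidx : ¬ r ∣ ((Q : Subgroup N).map N.subtype).index := by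
    have h1 : ((Q : Subgroup N).map N.subtype).index = (Q : Subgroup N).index * N.index :=
      Subgroup.index_map_subtype _
    rw [h1]
    intro h2
    rcases hr.out.dvd_mul.1 h2 with h3 | h3
    · exact Q.not_dvd_index h3
    · exact hN h3
  let Q2 : Sylow r G := hQ'.toSylow hidx
  obtain ⟨Q1, hQ1⟩ := hT.exists_le_sylow
  obtain ⟨g, hg⟩ := MulAction.exists_smul_eq G Q1 Q2
  refine ⟨g, fun t ht => ?_⟩
  have h1 : g * t * g⁻¹ ∈ (g • Q1 : Sylow r G) := by
    rw [← MulAut.conj_apply]
    exact ⟨t, hQ1 ht, rfl⟩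
  rw [hg] at h1
  exact map_subtype_le _ h1

theorem card_dvd_sub_one (h2 : p ≠ 2) (P : Sylow p G) (hP : IsMulCommutative ↥(P : Subgroup G)) {r : ℕ}
    [hr : Fact r.Prime] (hrp : r ≠ p)
    (hnr : ∀ T : Subgroup G, IsPGroup r T → (P : Subgroup G) ≤ normalizer (T : Set G) → T = ⊥)
    {R : Subgroup G} [hRn : R.Normal] (hR : Group.IsSolvable R) {V : Subgroup G} (hVc : V ≤ center G)
    (hVP : V ≤ (P : Subgroup G)) {x : G} (hxP : x ∈ P) (hxR : x ∈ R) (hxp : x ^ p = 1) (hxV : x ∉ V)
    (hΩ : ∀ z ∈ P, z ^ p = 1 → ∃ i : ℤ, z * x ^ i ∈ V) {T : Subgroup G} (hT : IsPGroup r T) :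
    IsCyclic T ∧ Nat.card T ∣ p - 1 := by
  have hVn : V.Normal := by
    constructor
    intro v hv g
    have h1 : g * v * g⁻¹ = v := by rw [mem_center_iff.1 (hVc hv) g]; group
    rwa [h1]
  obtain ⟨K, hKn, hpK, hKN⟩ := exists_normal_of_solvable P hP (R := R) hR
  set N : Subgroup G := normalizer (((P : Subgroup G) ⊓ R : Subgroup G) : Set G) with hN
  -- `r` does not divide `|K|`
  have hrK : ¬ r ∣ Nat.card K := by
    intro hrE
    obtain ⟨T, ⟨T1, hT1⟩, hT2⟩ := Lib.PGroupCoprimeAction.exists_invariant_sylow (A := (P : Subgroup G)) (H := K)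
      P.isPGroup' hpK (fun b _ u hu => hKn.conj_mem u hu b) r
    have hTr : IsPGroup r T := by rw [← hT1]; exact T1.isPGroup'.map _
    have hTb : T = ⊥ := by
      refine hnr T hTr ?_
      intro b hb
      rw [mem_normalizer_iff]
      intro u
      refine ⟨fun hu => hT2 b hb u hu, fun hu => ?_⟩
      have h3 := hT2 b⁻¹ (inv_mem hb) _ hu
      have h4 : b⁻¹ * (b * u * b⁻¹) * b⁻¹⁻¹ = u := by group
      rwa [h4] at h3
    have h3 : (T1 : Subgroup K) = ⊥ := by
      rw [hTb] at hT1
      exact (map_eq_bot_iff_of_injective _ K.subtype_injective).1 hT1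
    have h4 := T1.not_dvd_index
    rw [h3, index_bot] at h4
    exact h4 hrE
  have hrN : ¬ r ∣ N.index := by
    intro h
    apply hrK
    have h1 := Lib.SylowNormalInf.relIndex_sup_of_normal N K
    rw [sup_comm, hKN, relIndex_top_right] at h1
    rw [h1] at h
    exact h.trans (by
      have := Lib.SylowNormalInf.card_inf_mul_relIndex N K
      exact Dvd.intro_left _ this)
  obtain ⟨g, hg⟩ := exists_conj_le hrN hT
  set T' : Subgroup G := T.map (MulAut.conj g).toMonoidHom with hT'
  have hT'c : Nat.card T' = Nat.card T := card_map_of_injective (MulAut.conj g).injective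
  have hT'r : IsPGroup r T' := hT.map _
  have hT'N : T' ≤ N := by
    rintro _ ⟨t, ht, rfl⟩
    exact hg t ht
  have hc := comm_of_hab hP
  -- the action on `Ω / V`
  set xb : G ⧸ V := QuotientGroup.mk' V x with hxb
  have hxbo : orderOf xb = p := by
    refine orderOf_eq_prime ?_ ?_
    · rw [hxb, ← map_pow, hxp, map_one]
    · intro h
      exact hxV ((QuotientGroup.eq_one_iff x).1 h)
  have hconj : ∀ t ∈ T', ∃ i : ℤ, QuotientGroup.mk' V t * xb * (QuotientGroup.mk' V t)⁻¹ = xb ^ i := by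
    intro t ht
    have h1 : t * x * t⁻¹ ∈ ((P : Subgroup G) ⊓ R : Subgroup G) := by
      have h0 := hT'N ht
      rw [hN, mem_normalizer_iff] at h0
      exact (h0 x).1 ⟨hxP, hxR⟩
    obtain ⟨i, hi⟩ := hΩ _ h1.1 (by rw [conj_pow, hxp]; group)
    refine ⟨-i, ?_⟩
    have h3 : QuotientGroup.mk' V (t * x * t⁻¹ * x ^ i) = 1 := (QuotientGroup.eq_one_iff _).2 hi
    rw [map_mul, map_mul, map_mul, map_inv, map_zpow, ← hxb] at h3
    rw [zpow_neg]
    exact eq_inv_of_mul_eq_one_left h3
  have hTn : ∀ t ∈ T', QuotientGroup.mk' V t ∈ normalizer ((zpowers xb : Subgroup (G ⧸ V)) : Set (G ⧸ V)) := by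
    have key : ∀ t ∈ T', ∀ y ∈ zpowers xb, QuotientGroup.mk' V t * y * (QuotientGroup.mk' V t)⁻¹ ∈ zpowers xb := by
      rintro t ht _ ⟨j, rfl⟩
      obtain ⟨i, hi⟩ := hconj t ht
      change QuotientGroup.mk' V t * xb ^ j * (QuotientGroup.mk' V t)⁻¹ ∈ _
      rw [← conj_zpow, hi]
      exact zpow_mem (zpow_mem (mem_zpowers _) _) _
    intro t ht
    rw [mem_normalizer_iff]
    intro y
    refine ⟨fun hy => key t ht y hy, fun hy => ?_⟩
    have h3 := key t⁻¹ (inv_mem ht) _ hy
    rw [map_inv] at h3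
    have h4 : (QuotientGroup.mk' V t)⁻¹ * (QuotientGroup.mk' V t * y * (QuotientGroup.mk' V t)⁻¹) * (QuotientGroup.mk' V t)⁻¹⁻¹ = y := by
      group
    rwa [h4] at h3
  let ψ : T' →* MulAut (zpowers xb) := (zpowers xb).normalizerMonoidHom.comp
    (((QuotientGroup.mk' V).comp T'.subtype).codRestrict _ (fun t => hTn t t.2))
  have hcent := card_eq_one_of_omega h2 P hP hrp hnr
  have hψ : Function.Injective ψ := by
    rw [injective_iff_map_eq_one]
    rintro ⟨t, ht⟩ h
    -- `t` centralises `xb`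
    have h3 : QuotientGroup.mk' V t * xb * (QuotientGroup.mk' V t)⁻¹ = xb :=
      congrArg (fun f : MulAut (zpowers xb) => ((f ⟨xb, mem_zpowers _⟩ : zpowers xb) : G ⧸ V)) h
    set v : G := t * x * t⁻¹ * x⁻¹ with hv
    have hvV : v ∈ V := by
      rw [← QuotientGroup.eq_one_iff]
      change QuotientGroup.mk' V v = 1
      rw [hv, map_mul, map_mul, map_mul, map_inv, map_inv, ← hxb, h3, mul_inv_cancel]
    have hvc : ∀ y : G, y * v = v * y := mem_center_iff.1 (hVc hvV)
    have h4 : ∀ n : ℕ, t ^ n * x * (t ^ n)⁻¹ = v ^ n * x := by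
      intro n
      induction n with
      | zero => simp
      | succ n ih =>
        have h5 : t ^ (n + 1) * x * (t ^ (n + 1))⁻¹ = t * (t ^ n * x * (t ^ n)⁻¹) * t⁻¹ := by
          rw [pow_succ']; group
        have h6 : t * x * t⁻¹ = v * x := by rw [hv]; group
        have h7 : Commute t (v ^ n) := (show Commute t v from hvc t).pow_right n
        calc t ^ (n + 1) * x * (t ^ (n + 1))⁻¹ = t * (v ^ n * x) * t⁻¹ := by rw [h5, ih]
          _ = (t * v ^ n) * x * t⁻¹ := by group
          _ = v ^ n * (t * x * t⁻¹) := by rw [h7.eq]; group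
          _ = v ^ (n + 1) * x := by rw [h6, pow_succ]; group
    obtain ⟨k, hk⟩ := hT'r ⟨t, ht⟩
    have hk' : t ^ r ^ k = 1 := by simpa using congrArg Subtype.val hk
    have h5 : v ^ r ^ k = 1 := by
      have := h4 (r ^ k)
      rw [hk', one_mul, inv_one, mul_one] at this
      exact (mul_eq_right.1 this.symm)
    have h6 : v = 1 := by
      obtain ⟨m, hm⟩ := P.isPGroup' ⟨v, hVP hvV⟩
      have hm' : v ^ p ^ m = 1 := by simpa using congrArg Subtype.val hm
      have h7 : orderOf v ∣ r ^ k := orderOf_dvd_of_pow_eq_one h5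
      have h8 : orderOf v ∣ p ^ m := orderOf_dvd_of_pow_eq_one hm'
      have h9 : Nat.Coprime (r ^ k) (p ^ m) :=
        Nat.Coprime.pow _ _ ((Nat.coprime_primes hr.out hp.out).2 hrp)
      exact orderOf_eq_one_iff.1 (Nat.eq_one_of_dvd_coprimes h9 h7 h8)
    have h7 : Commute t x := by
      have h8 : t * x * t⁻¹ * x⁻¹ = 1 := by rw [← hv, h6]
      have h9 : t * x * t⁻¹ = x := by
        have := eq_of_mul_inv_eq_one h8
        exact this
      exact mul_inv_eq_iff_eq_mul.1 h9
    -- `t` centralises `Ω`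
    have h8 : t ∈ centralizer ({z : G | z ∈ P ∧ z ^ p = 1}) := by
      rw [mem_centralizer_iff]
      rintro z ⟨hz, hzp⟩
      obtain ⟨i, hi⟩ := hΩ z hz hzp
      have h9 : Commute (z * x ^ i) t := (mem_center_iff.1 (hVc hi) t).symm
      have h10 : z = (z * x ^ i) * (x ^ i)⁻¹ := by group
      rw [h10]
      exact (h9.mul_left ((h7.symm.zpow_left i).inv_left)).eq
    have h9 : orderOf t ∣ Nat.card (centralizer ({z : G | z ∈ P ∧ z ^ p = 1})) := by
      rw [← Subgroup.orderOf_mk t h8]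
      exact orderOf_dvd_natCard _
    have h10 : orderOf t ∣ r ^ k := orderOf_dvd_of_pow_eq_one hk'
    have h11 : t = 1 := by
      obtain ⟨j, -, hj⟩ := (Nat.dvd_prime_pow hr.out).1 h10
      rcases Nat.eq_zero_or_pos j with h12 | h12
      · rw [h12, pow_zero] at hj
        exact orderOf_eq_one_iff.1 hj
      · exfalso
        apply hcent
        rw [hj] at h9
        exact (dvd_pow_self r h12.ne').trans h9
    exact Subtype.ext h11
  have h3 := Subgroup.card_dvd_of_injective ψ hψ
  rw [hT'c] at h3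
  have h4 : Nat.card (MulAut (zpowers xb)) = p - 1 := by
    rw [IsCyclic.card_mulAut, Nat.card_zpowers, hxbo, Nat.totient_prime hp.out]
  refine ⟨?_, by rwa [h4] at h3⟩
  have h5 : IsCyclic (MulAut (zpowers xb)) := by
    have h6 : Nat.card (zpowers xb) = p := by rw [Nat.card_zpowers, hxbo]
    have e : MulAut (zpowers xb) ≃* (ZMod (Nat.card (zpowers xb)))ˣ := IsCyclic.mulAutMulEquiv _
    rw [h6] at e
    exact isCyclic_of_injective e.toMonoidHom e.injective
  have h6 : IsCyclic T' := isCyclic_of_injective ψ hψ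
  let e : T ≃* T' := T.equivMapOfInjective (MulAut.conj g).toMonoidHom (MulAut.conj g).injective
  exact isCyclic_of_injective e.toMonoidHom e.injective

end

end Cfsg.Agent.H132.S5
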