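import Cfsg.Agent.H132.S5.Eng2
import Cfsg.Agent.H28.S5Hyper

/-!
# Strong pairs when the Sylow `p`-subgroups are abelian (III)

* `spair_of_not_rad` : a hyperplane `V₀ ≠ 1` of `Ω₁(P)` such that `Ω₁(P)` is not contained in the solvable radical of `C_S(V₀)`;
* `spair_of_cent` : `P` normalises no `r`-subgroup, and a hyperplane `V₀` of `Ω₁(P)` is centralised by an `r`-subgroup `T` whose
  order does not divide `p - 1`.
-/

set_option autoImplicit false

universe u

namespace Cfsg.Agent.H132.S5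

open Cfsg Cfsg.Agent.H533.T5 Cfsg.Agent.H106.MB Cfsg.Agent.H106.MT Cfsg.Agent.H459.Rad Subgroup

variable {p : ℕ} [hp : Fact p.Prime] {S : Type u} [Group S] [Finite S] [IsSimpleGroup S]

/-- **Hyperplanes of `Ω₁(P)`.** -/
theorem spair_of_not_rad' (B : SBox.{u} p) (hna : ¬ IsMulCommutative S) (hlt : SBelow.{u} p (Nat.card S)) (P : Sylow p S)
    (hP : IsMulCommutative ↥(P : Subgroup S)) {V : Subgroup S} (hV : V ≤ omega p (P : Subgroup S) (comm_of_hab hP))
    (hV1 : V ≠ ⊥) (hne : ¬ omega p (P : Subgroup S) (comm_of_hab hP) ≤ V)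
    (hgen : ∀ z ∈ omega p (P : Subgroup S) (comm_of_hab hP), z ∉ V →
      ∀ w ∈ omega p (P : Subgroup S) (comm_of_hab hP), ∃ n : ℤ, w * z ^ n ∈ V)
    (hns : ∀ z ∈ omega p (P : Subgroup S) (comm_of_hab hP), z ∉ V → ∀ hz : z ∈ centralizer (V : Set S),
      (⟨z, hz⟩ : centralizer (V : Set S)) ∉ solvableRadical (centralizer (V : Set S))) {x y : S} (hx : orderOf x = p)
    (hy : orderOf y = p) : SPair p (⊤ : Subgroup S) x y := by
  set Ω := omega p (P : Subgroup S) (comm_of_hab hP) with hΩ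
  have hcΩ : ∀ a ∈ Ω, ∀ b ∈ Ω, Commute a b := fun a ha b hb => comm_of_hab hP a ha.1 b hb.1
  have hex : ∀ {z : S}, orderOf z = p → ∃ g : S, g * z * g⁻¹ ∈ Ω ∧ g * z * g⁻¹ ∉ V := by
    intro z hz
    by_contra hcon
    push Not at hcon
    apply hne
    rw [hΩ, ← closure_conj_omega B.irr hna P hP hz, closure_le]
    rintro w ⟨hw, g, rfl⟩
    exact hcon g hw
  obtain ⟨g, hg, hgV⟩ := hex hx
  obtain ⟨h, hh, hhV⟩ := hex hy
  have ho : ∀ {z : S} (k : S), orderOf z = p → orderOf (k * z * k⁻¹) = p := by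
    intro z k hz
    have := (MulAut.conj k).orderOf_eq z
    rw [MulAut.conj_apply] at this
    rw [this, hz]
  obtain ⟨x', hx'⟩ : ∃ x', x' = g * x * g⁻¹ := ⟨_, rfl⟩
  obtain ⟨y', hy'⟩ : ∃ y', y' = h * y * h⁻¹ := ⟨_, rfl⟩
  have hx'o : orderOf x' = p := by rw [hx']; exact ho g hx
  rw [← hx'] at hg hgV
  rw [← hy'] at hh hhV
  obtain ⟨j, hj⟩ := hgen x' hg hgV y' hh
  have hC : centralizer (V : Set S) ≠ ⊤ := by
    intro hC
    apply hV1
    have h1 : V ≤ center S := by
      intro v hv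
      rw [mem_center_iff]
      intro s
      have h2 : s ∈ centralizer (V : Set S) := by rw [hC]; exact mem_top s
      exact (mem_centralizer_iff.1 h2 v hv).symm
    rcases (inferInstance : (center S).Normal).eq_bot_or_eq_top with h2 | h2
    · rw [h2] at h1; exact le_bot_iff.1 h1
    · exfalso
      apply hna
      refine ⟨⟨fun a b => ?_⟩⟩
      exact mem_center_iff.1 (h2 ▸ mem_top b : b ∈ center S) a
  have hx'C : x' ∈ centralizer (V : Set S) := by
    rw [mem_centralizer_iff]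
    intro v hv
    exact (hcΩ v (hV hv) x' hg).eq
  have hjp : ¬ (p : ℤ) ∣ -j := by
    rintro ⟨m, hm⟩
    apply hhV
    have h1 : x' ^ j = 1 := by
      have h2 : j = (p : ℤ) * (-m) := by linarith
      rw [h2, zpow_mul, zpow_natCast, ← hx'o, pow_orderOf_eq_one, one_zpow]
    rwa [h1, mul_one] at hj
  have h1 := Cfsg.Agent.H28.S5Hyper.spair_of_hyper (p := p) B.rs (S := S) (x := x') (y := y') hlt hx'o
    (C := centralizer (V : Set S)) hC (v := y' * x' ^ j)
    (fun c hc => ((mem_centralizer_iff.1 hc) _ hj).symm)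
    ⟨1, by
      have := (hV hj).2
      rwa [pow_one]⟩ hx'C hjp (by
        have h3 : Commute y' (x' ^ j) := (hcΩ y' hh x' hg).zpow_right j
        rw [h3.eq, ← mul_assoc, ← zpow_add]
        simp) (hns x' hg hgV hx'C)
  rw [hx', hy'] at h1
  exact (h1.conj_left (mem_top g)).conj_right (mem_top h)

omit [Finite S] [IsSimpleGroup S] in
theorem hgen_of_index (P : Sylow p S)
    (hP : IsMulCommutative ↥(P : Subgroup S)) {V : Subgroup S} (hV : V ≤ omega p (P : Subgroup S) (comm_of_hab hP))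
    (hidx : V.relIndex (omega p (P : Subgroup S) (comm_of_hab hP)) = p) :
    (¬ omega p (P : Subgroup S) (comm_of_hab hP) ≤ V) ∧ ∀ z ∈ omega p (P : Subgroup S) (comm_of_hab hP), z ∉ V →
      ∀ w ∈ omega p (P : Subgroup S) (comm_of_hab hP), ∃ n : ℤ, w * z ^ n ∈ V := by
  refine ⟨?_, ?_⟩
  · intro h
    rw [relIndex_eq_one.2 h] at hidx
    exact hp.out.one_lt.ne hidx
  · intro z hz hzV w hw
    obtain ⟨j, hj⟩ := exists_zpow_mem hV (fun a ha b hb => comm_of_hab hP a ha.1 b hb.1) hidx (inv_mem hw) hz hzV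
    rw [inv_inv] at hj
    exact ⟨j, hj⟩

theorem spair_of_not_rad (B : SBox.{u} p) (hna : ¬ IsMulCommutative S) (hlt : SBelow.{u} p (Nat.card S)) (P : Sylow p S)
    (hP : IsMulCommutative ↥(P : Subgroup S)) {V : Subgroup S} (hV : V ≤ omega p (P : Subgroup S) (comm_of_hab hP))
    (hV1 : V ≠ ⊥) (hidx : V.relIndex (omega p (P : Subgroup S) (comm_of_hab hP)) = p)
    (hns : ∀ z ∈ omega p (P : Subgroup S) (comm_of_hab hP), z ∉ V → ∀ hz : z ∈ centralizer (V : Set S),
      (⟨z, hz⟩ : centralizer (V : Set S)) ∉ solvableRadical (centralizer (V : Set S))) {x y : S} (hx : orderOf x = p)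
    (hy : orderOf y = p) : SPair p (⊤ : Subgroup S) x y :=
  spair_of_not_rad' B hna hlt P hP hV hV1 (hgen_of_index P hP hV hidx).1 (hgen_of_index P hP hV hidx).2 hns hx hy

/-- **Centralisers of hyperplanes**, general form. -/
theorem spair_of_cent' (h2 : p ≠ 2) (B : SBox.{u} p) (hna : ¬ IsMulCommutative S) (hlt : SBelow.{u} p (Nat.card S)) (P : Sylow p S)
    (hP : IsMulCommutative ↥(P : Subgroup S)) {r : ℕ} [hr : Fact r.Prime] (hrp : r ≠ p)
    (hnr : ∀ T : Subgroup S, IsPGroup r T → (P : Subgroup S) ≤ normalizer (T : Set S) → T = ⊥)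
    {V : Subgroup S} (hV : V ≤ omega p (P : Subgroup S) (comm_of_hab hP))
    (hV1 : V ≠ ⊥) (hgen : ∀ z ∈ omega p (P : Subgroup S) (comm_of_hab hP), z ∉ V →
      ∀ w ∈ omega p (P : Subgroup S) (comm_of_hab hP), ∃ n : ℤ, w * z ^ n ∈ V)
    {T : Subgroup S} (hT : IsPGroup r T) (hTV : ∀ t ∈ T, ∀ v ∈ V, Commute t v)
    (hTc : ¬ (IsCyclic T ∧ Nat.card T ∣ p - 1))
    {x y : S} (hx : orderOf x = p) (hy : orderOf y = p) : SPair p (⊤ : Subgroup S) x y := by
  by_cases hne : omega p (P : Subgroup S) (comm_of_hab hP) ≤ V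
  · exfalso
    apply hTc
    have h1 := card_eq_one_of_omega h2 P hP hrp hnr
    have h3 : T ≤ centralizer ({z : S | z ∈ P ∧ z ^ p = 1}) := by
      intro t ht
      rw [mem_centralizer_iff]
      intro z hz
      exact (hTV t ht z (hne hz)).symm.eq
    have h4 : Nat.card T = 1 := by
      obtain ⟨k, hk⟩ := IsPGroup.iff_card.1 hT
      rcases Nat.eq_zero_or_pos k with h5 | h5
      · rw [hk, h5, pow_zero]
      · exfalso
        apply h1
        have h6 := card_dvd_of_le h3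
        rw [hk] at h6
        exact (dvd_pow_self r h5.ne').trans h6
    rw [h4]
    refine ⟨?_, one_dvd _⟩
    have : Subsingleton T := (Nat.card_eq_one_iff_unique.1 h4).1
    exact isCyclic_of_subsingleton
  refine spair_of_not_rad' B hna hlt P hP hV hV1 hne hgen ?_ hx hy
  intro z hz hzV hzC hzR
  apply hTc
  set C : Subgroup S := centralizer (V : Set S) with hC
  have hPC : (P : Subgroup S) ≤ C := by
    intro a ha
    rw [hC, mem_centralizer_iff]
    intro v hv
    exact (comm_of_hab hP v (hV hv).1 a ha).eq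
  have hTC : T ≤ C := by
    intro t ht
    rw [hC, mem_centralizer_iff]
    intro v hv
    exact (hTV t ht v hv).symm.eq
  let PC : Sylow p C := P.subtype hPC
  have hPC' : (PC : Subgroup C) = (P : Subgroup S).subgroupOf C := rfl
  have hPCc : IsMulCommutative ↥(PC : Subgroup C) :=
    ⟨⟨fun a b => Subtype.ext (Subtype.ext (comm_of_hab hP _ a.2 _ b.2).eq)⟩⟩
  have hTc' : Nat.card (T.subgroupOf C) = Nat.card T :=
    Nat.card_congr (subgroupOfEquivOfLe hTC).toEquiv
  have hRn : (solvableRadical C).Normal := rad_normal C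
  suffices hgoal : IsCyclic (T.subgroupOf C) ∧ Nat.card (T.subgroupOf C) ∣ p - 1 by
    rw [hTc'] at hgoal
    refine ⟨?_, hgoal.2⟩
    have := hgoal.1
    exact isCyclic_of_injective ((subgroupOfEquivOfLe hTC).symm.toMonoidHom) (subgroupOfEquivOfLe hTC).symm.injective
  refine card_dvd_sub_one (G := C) h2 PC hPCc hrp ?_ (R := solvableRadical C) (rad_solvable C)
    (V := V.subgroupOf C) ?_ ?_ (x := ⟨z, hzC⟩) hz.1 hzR (Subtype.ext hz.2) ?_ ?_ hT.comap_subtype
  · intro T1 hT1 hPT1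
    have h1 := hnr (T1.map C.subtype) (hT1.map _) (by
      intro a ha
      have h3 := hPT1 (show (⟨a, hPC ha⟩ : C) ∈ PC from ha)
      rw [mem_normalizer_iff] at h3 ⊢
      intro w
      constructor
      · rintro ⟨t, ht, rfl⟩
        exact ⟨_, (h3 t).1 ht, rfl⟩
      · rintro ⟨t, ht, ht'⟩
        have h4 : w = (((⟨a, hPC ha⟩ : C)⁻¹ * t * ⟨a, hPC ha⟩ : C) : S) := by
          have h5 : (t : S) = a * w * a⁻¹ := ht'
          simp only [Subgroup.coe_mul, InvMemClass.coe_inv]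
          rw [h5]; group
        rw [h4]
        refine ⟨(⟨a, hPC ha⟩ : C)⁻¹ * t * ⟨a, hPC ha⟩, ?_, rfl⟩
        change (⟨a, hPC ha⟩ : C)⁻¹ * t * ⟨a, hPC ha⟩ ∈ T1
        rw [h3]
        have h5 : (⟨a, hPC ha⟩ : C) * ((⟨a, hPC ha⟩ : C)⁻¹ * t * ⟨a, hPC ha⟩) * (⟨a, hPC ha⟩ : C)⁻¹ = t := by group
        rwa [h5])
    exact (map_eq_bot_iff_of_injective _ C.subtype_injective).1 h1
  · intro v hv
    rw [mem_center_iff]
    intro c
    exact Subtype.ext ((mem_centralizer_iff.1 c.2) _ hv).symm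
  · intro v hv
    exact (hV hv).1
  · exact hzV
  · rintro w hw hwp
    have hwΩ : (w : S) ∈ omega p (P : Subgroup S) (comm_of_hab hP) :=
      ⟨hw, by simpa using congrArg Subtype.val hwp⟩
    exact hgen z hz hzV w hwΩ

/-- **Centralisers of hyperplanes.** -/
theorem spair_of_cent (h2 : p ≠ 2) (B : SBox.{u} p) (hna : ¬ IsMulCommutative S) (hlt : SBelow.{u} p (Nat.card S)) (P : Sylow p S)
    (hP : IsMulCommutative ↥(P : Subgroup S)) {r : ℕ} [hr : Fact r.Prime] (hrp : r ≠ p)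
    (hnr : ∀ T : Subgroup S, IsPGroup r T → (P : Subgroup S) ≤ normalizer (T : Set S) → T = ⊥)
    {V : Subgroup S} (hV : V ≤ omega p (P : Subgroup S) (comm_of_hab hP))
    (hV1 : V ≠ ⊥) (hidx : V.relIndex (omega p (P : Subgroup S) (comm_of_hab hP)) = p)
    {T : Subgroup S} (hT : IsPGroup r T) (hTV : ∀ t ∈ T, ∀ v ∈ V, Commute t v) (hTc : ¬ Nat.card T ∣ p - 1)
    {x y : S} (hx : orderOf x = p) (hy : orderOf y = p) : SPair p (⊤ : Subgroup S) x y :=
  spair_of_cent' h2 B hna hlt P hP hrp hnr hV hV1 (hgen_of_index P hP hV hidx).2 hT hTV (fun h => hTc h.2) hx hy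

end Cfsg.Agent.H132.S5
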