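import Cfsg.Agent.H3.S5.PSpOwn
import Cfsg.Agent.H157.S5.PspOut

/-!
# The strong row of the family `PSp` (S2274)
-/

set_option autoImplicit false

universe u

namespace Cfsg.Agent.H132.S5

open Cfsg Cfsg.Agent.H533.T5 Cfsg.Agent.H106.MT

theorem srowFam_psp {p : ℕ} (hp : p.Prime) (h5 : 5 ≤ p) (B : SBox.{u} p) :
    SRowFam.{u} p (fun S _ => IsPSp S) := by
  rintro S _ _ _ - hS hlt
  by_cases hch : IsPSpChar p S
  · obtain ⟨F, _, _, _, m, hm, -, ⟨e⟩⟩ := hch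
    have hpf : Fact p.Prime := ⟨hp⟩
    exact Cfsg.Agent.H3.S5.PSpOwn.srow_psp hm h5 e hlt
  · exact Cfsg.Agent.H157.S5.srow_isPSp hp h5 B hlt hS hch

end Cfsg.Agent.H132.S5
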