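import Cfsg.Agent.H347.S2274.Spor
import Cfsg.Agent.H513.SRowA
import Cfsg.Agent.H513.SRowB
import Cfsg.Agent.H513.SRowC
import Cfsg.Agent.H513.SRowD
import Cfsg.Agent.H513.SRowHe
import Cfsg.Agent.H513.SRowHN
import Cfsg.Agent.H199.S5.MonFive
import Cfsg.Agent.H199.S5.MonSeven
import Cfsg.Agent.H199.S5.JFour
import Cfsg.Agent.H199.S5.MonThirteen
import Cfsg.Agent.H752.S5.CoFive
import Cfsg.Agent.H752.S5.CoSeven
import Cfsg.Agent.H752.S5.SuzJ2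
import Cfsg.Agent.H461.T5S.SpA

/-!
# The record of the strong sporadic rows (S2274)
-/

set_option autoImplicit false

universe u

namespace Cfsg.Agent.H132.S5

open Cfsg Cfsg.Agent.H533.T5 Cfsg.Agent.H106.MT

theorem sbigS (B5 : SBox.{u} 5) (B7 : SBox.{u} 7) (B11 : SBox.{u} 11) : Cfsg.Agent.H347.S2274.SBigS.{u} where
  j2 := fun S _ _ _ _ h _ => Cfsg.Agent.H199.S5.srow_j2 h
  j4 := fun S _ _ _ hna h _ => Cfsg.Agent.H199.S5.JFour.srow_j4 B11 hna h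
  co1_5 := fun S _ _ _ _ h _ => Cfsg.Agent.H752.S5.CoFive.srow_co1 B5 S h
  co1_7 := fun S _ _ _ _ h _ => Cfsg.Agent.H752.S5.CoSeven.srow_co1 S h
  co2 := fun S _ _ _ _ h _ => Cfsg.Agent.H461.T5S.SRows.co2 S h B5
  co3 := fun S _ _ _ _ h _ => Cfsg.Agent.H461.T5S.SRows.co3 S h B5
  mcl := fun S _ _ _ _ h _ => Cfsg.Agent.H461.T5S.SRows.mcl S h B5
  hs := fun S _ _ _ _ h _ => Cfsg.Agent.H461.T5S.SRows.hs S h B5
  suz := fun S _ _ _ _ h hlt => Cfsg.Agent.H752.S5.SuzJ2.srow_suz S h hlt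
  he_5 := fun S _ _ _ hna h _ => Cfsg.Agent.H513.SR.srow_he5 B5 hna h
  he_7 := fun S _ _ _ hna h _ => Cfsg.Agent.H513.SR.srow_he7 hna h
  ru := fun S _ _ _ _ h _ => Cfsg.Agent.H461.T5S.SRows.ru S h B5
  on := fun S _ _ _ hna h hlt => Cfsg.Agent.H513.SR.srow_on7 hna h hlt
  ly := fun S _ _ _ hna h hlt => Cfsg.Agent.H513.SR.srow_ly5 hna h hlt
  fi22 := fun S _ _ _ hna h _ => Cfsg.Agent.H513.SR.srow_fi22 B5 hna h
  fi23 := fun S _ _ _ hna h hlt => Cfsg.Agent.H513.SR.srow_fi23 hna h hlt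
  fi24_5 := fun S _ _ _ hna h _ => Cfsg.Agent.H513.SR.srow_fi24_5 B5 hna h
  fi24_7 := fun S _ _ _ hna h hlt => Cfsg.Agent.H513.SR.srow_fi24_7 hna h hlt
  hn := fun S _ _ _ hna h _ => Cfsg.Agent.H513.SR.srow_hn5 B5 hna h
  th_5 := fun S _ _ _ hna h _ => Cfsg.Agent.H513.SR.srow_th5 B5 hna h
  th_7 := fun S _ _ _ hna h _ => Cfsg.Agent.H513.SR.srow_th7 B7 hna h
  b_5 := fun S _ _ _ hna h hlt => Cfsg.Agent.H513.SR.srow_b5 hna h hlt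
  b_7 := fun S _ _ _ hna h hlt => Cfsg.Agent.H513.SR.srow_b7 hna h hlt
  m_5 := fun S _ _ _ _ h _ => Cfsg.Agent.H199.S5.srow_m_five h
  m_7 := fun S _ _ _ _ h _ => Cfsg.Agent.H199.S5.srow_m_seven h
  m_11 := fun S _ _ _ hna h hlt => Cfsg.Agent.H513.SR.srow_m11 hna h hlt
  m_13 := fun S _ _ _ _ h _ => Cfsg.Agent.H199.S5.srow_m_thirteen h

theorem srowFam_spor (B5 : SBox.{u} 5) (B7 : SBox.{u} 7) (B11 : SBox.{u} 11) {p : ℕ} (hp : p.Prime)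
    (h5 : 5 ≤ p) (B : SBox.{u} p) : SRowFam.{u} p (fun S _ => IsSporadicGroup S) :=
  Cfsg.Agent.H347.S2274.srowFam_spor (sbigS B5 B7 B11)
    (fun S _ _ _ hna h _ => Cfsg.Agent.H513.SR.srow_tits B5 hna h) hp h5 B

end Cfsg.Agent.H132.S5
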